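import Groth.Agent.NonAbBd.Local

/-! The boundary map of non-abelian cohomology. -/

universe w v u

open CategoryTheory Opposite NonAbH1 NonAbH1.GSheaf

namespace Groth.Agent.NonAbBd

variable {C : Type u} [Category.{v} C] {J : GrothendieckTopology C}

/-- An equivariant morphism which is bijective on sections is an isomorphism. -/
theorem nonempty_iso_of_bijective {G : Sheaf J GrpCat.{w}} {P Q : GSheaf G} (f : P ⟶ Q)
    (h : ∀ U, Function.Bijective (f.hom.hom.app U)) : Nonempty (P ≅ Q) := by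
  haveI : ∀ U, IsIso (f.hom.hom.app U) := fun U => (isIso_iff_bijective _).mpr (h U)
  haveI : IsIso f.hom.hom := NatIso.isIso_of_isIso_app _
  haveI : IsIso ((sheafToPresheaf J _).map f.hom) := ‹IsIso f.hom.hom›
  haveI : IsIso f.hom := isIso_of_reflects_iso f.hom (sheafToPresheaf J _)
  have hl : ∀ (U : Cᵒᵖ) (q : Q.P.obj.obj U), f.hom.hom.app U ((inv f.hom).hom.app U q) = q := fun U q =>
    ConcreteCategory.congr_hom (congr_app (congrArg (fun e : Q.P ⟶ Q.P => e.hom) (IsIso.inv_hom_id f.hom)) U) q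
  let g : Q ⟶ P := ⟨inv f.hom, fun {U} a q => (h U).1 (by rw [hl, f.map_smul, hl])⟩
  exact ⟨⟨f, g, GSheaf.hom_ext (IsIso.hom_inv_id f.hom), GSheaf.hom_ext (IsIso.inv_hom_id f.hom)⟩⟩

variable [J.HasSheafCompose (forget GrpCat.{w})] {F G : Sheaf J GrpCat.{w}} (u : F ⟶ G)
  {Q : GSheaf G} (π : GSheaf.trivial G ⟶ Q)

theorem pi_mul {U : Cᵒᵖ} (a b : G.obj.obj U) :
    π.hom.hom.app U (ofGrp (a * b)) = Q.smul a (π.hom.hom.app U (ofGrp b)) :=
  π.map_smul a (ofGrp b)

theorem pi_map {U V : Cᵒᵖ} (f : U ⟶ V) (a : G.obj.obj U) :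
    π.hom.hom.app V (ofGrp (G.obj.map f a)) = Q.P.obj.map f (π.hom.hom.app U (ofGrp a)) :=
  hom_map π.hom f (ofGrp a)

theorem u_map {U V : Cᵒᵖ} (f : U ⟶ V) (x : F.obj.obj U) :
    u.hom.app V (F.obj.map f x) = G.obj.map f (u.hom.app U x) :=
  ConcreteCategory.congr_hom (u.hom.naturality f) x

variable (c : Q.P.obj.sections)

/-- The subfunctor of local liftings. -/
def liftSub : Subfunctor (uSh G).obj where
  obj U := {g | π.hom.hom.app U g = c.1 U}
  map {U V} i g hg := by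
    show π.hom.hom.app V ((uSh G).obj.map i g) = c.1 V
    refine (hom_map π.hom i g).trans ?_
    rw [show π.hom.hom.app U g = c.1 U from hg]
    exact c.2 i

variable {π c} (hQ : IsQuotientBy u π)

/-- The sheaf of liftings. -/
def liftGSheaf : GSheaf F where
  P := ⟨(liftSub π c).toFunctor, (isSheaf_iff_isSheaf_of_type J _).mpr
    ((Subfunctor.isSheaf_iff (liftSub π c) ((isSheaf_iff_isSheaf_of_type J _).mp (uSh G).property)).mpr fun U s hs =>
      ext_of_local Q.P hs fun V f hf => by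
        rw [← hom_map π.hom]
        exact hf.trans (c.2 f.op).symm)⟩
  smul {U} x g := ⟨ofGrp (toGrp g.1 * (u.hom.app U x)⁻¹),
    (((hQ.1 U (toGrp g.1) _).mpr ⟨x⁻¹, by rw [map_inv]⟩).symm.trans g.2 : _)⟩
  one_smul {U} g := Subtype.ext (by simp)
  mul_smul {U} x y g := Subtype.ext (by
    show toGrp g.1 * (u.hom.app U (x * y))⁻¹ = toGrp g.1 * (u.hom.app U y)⁻¹ * (u.hom.app U x)⁻¹
    rw [map_mul, _root_.mul_inv_rev, mul_assoc])
  map_smul {U V} f x g := Subtype.ext (by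
    show G.obj.map f (toGrp g.1 * (u.hom.app U x)⁻¹) = G.obj.map f (toGrp g.1) * (u.hom.app V (F.obj.map f x))⁻¹
    rw [map_mul, map_inv, u_map])

theorem isFibreOver_liftGSheaf : IsFibreOver u π c (liftGSheaf u (c := c) hQ) := by
  refine ⟨⟨(liftSub π c).ι⟩, fun U a b h => Subtype.ext h, fun U g => ?_, fun U f t => rfl⟩
  exact ⟨fun ⟨t, ht⟩ => ht ▸ t.2, fun h => ⟨⟨ofGrp g, h⟩, rfl⟩⟩

include hQ

theorem isTorsor_of_isFibreOver (hu : ∀ U, Function.Injective (u.hom.app U)) {T : GSheaf F}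
    (hT : IsFibreOver u π c T) : T.IsTorsor := by
  obtain ⟨ι, hinj, hmem, heq⟩ := hT
  refine ⟨fun U p q => ?_, fun U => ?_⟩
  · obtain ⟨f, hf⟩ := (hQ.1 U (toGrp (ι.hom.app U p)) (toGrp (ι.hom.app U q))).mp
      (((hmem U _).mp ⟨p, rfl⟩).trans ((hmem U _).mp ⟨q, rfl⟩).symm)
    refine ⟨f⁻¹, hinj U ?_, fun g hg => hu U ?_⟩
    · show toGrp (ι.hom.app U (T.smul f⁻¹ p)) = toGrp (ι.hom.app U q)
      rw [heq, hf, map_inv, inv_inv]
    · have h := heq U g p
      rw [hg, hf, mul_left_cancel_iff] at h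
      rw [map_inv, h, inv_inv]
  · obtain ⟨S, hS, h⟩ := hQ.2 U (c.1 (op U))
    refine ⟨S, hS, fun V f hf => ?_⟩
    obtain ⟨g, hg⟩ := h f hf
    obtain ⟨t, -⟩ := (hmem (op V) g).mpr (hg.trans (c.2 f.op))
    exact ⟨t⟩

omit hQ in
theorem iso_of_translate {c' : Q.P.obj.sections} {T T' : GSheaf F} (hT : IsFibreOver u π c T)
    (hT' : IsFibreOver u π c' T') (g : (uSh G).obj.sections)
    (hg : ∀ U, Q.smul (toGrp (g.1 U)) (c.1 U) = c'.1 U) : Nonempty (T ≅ T') := by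
  obtain ⟨ι, hinj, hmem, heq⟩ := hT
  obtain ⟨ι', hinj', hmem', heq'⟩ := hT'
  have hex : ∀ (U : Cᵒᵖ) (t : T.P.obj.obj U),
      ∃ t', toGrp (ι'.hom.app U t') = toGrp (g.1 U) * toGrp (ι.hom.app U t) := fun U t => by
    refine (hmem' U _).mpr ?_
    rw [pi_mul, (hmem U _).mp ⟨t, rfl⟩, hg]
  choose φ hφ using hex
  have hnat : ∀ {U V : Cᵒᵖ} (f : U ⟶ V) (t : T.P.obj.obj U),
      φ V (T.P.obj.map f t) = T'.P.obj.map f (φ U t) := by
    intro U V f t
    apply hinj'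
    show toGrp (ι'.hom.app V _) = toGrp (ι'.hom.app V _)
    rw [hφ, hom_map ι f, hom_map ι' f]
    show _ = G.obj.map f (toGrp (ι'.hom.app U (φ U t)))
    rw [hφ, map_mul]
    congr 1
    exact (g.2 f).symm
  let f : T ⟶ T' :=
    ⟨⟨{ app := fun U => TypeCat.ofHom (φ U)
        naturality := fun U V i => by
          ext t
          exact hnat i t }⟩, fun {U} a t => by
      apply hinj'
      show toGrp (ι'.hom.app U (φ U (T.smul a t))) = toGrp (ι'.hom.app U (T'.smul a (φ U t)))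
      rw [hφ, heq, heq', hφ, mul_assoc]⟩
  refine nonempty_iso_of_bijective f fun U => ⟨fun s t h => hinj U ?_, fun t' => ?_⟩
  · have h' : φ U s = φ U t := h
    have := congrArg (fun x => toGrp (ι'.hom.app U x)) h'
    simp only [hφ, mul_right_inj] at this
    exact this
  · obtain ⟨t, ht⟩ := (hmem U ((toGrp (g.1 U))⁻¹ * toGrp (ι'.hom.app U t'))).mpr (by
      rw [pi_mul, (hmem' U _).mp ⟨t', rfl⟩, ← hg U, ← Q.mul_smul, inv_mul_cancel, Q.one_smul])
    refine ⟨t, hinj' U ?_⟩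
    show toGrp (ι'.hom.app U (φ U t)) = toGrp (ι'.hom.app U t')
    rw [hφ, ht, mul_inv_cancel_left]

/-- The global section `1`. -/
def oneSection : (uSh G).obj.sections :=
  ⟨fun U => ofGrp (1 : G.obj.obj U), fun f => map_one (G.obj.map f).hom⟩

omit hQ in
theorem iso_of_fibre {T T' : GSheaf F} (hT : IsFibreOver u π c T) (hT' : IsFibreOver u π c T') :
    Nonempty (T ≅ T') :=
  iso_of_translate u hT hT' oneSection fun U => Q.one_smul _

omit hQ in
theorem translate_of_iso {c' : Q.P.obj.sections} {T T' : GSheaf F} (hTt : T.LocallyNonempty)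
    (hps : T.IsPseudoTorsor) (hT : IsFibreOver u π c T) (hT' : IsFibreOver u π c' T') (e : T ≅ T') :
    ∃ g : (uSh G).obj.sections, ∀ U, Q.smul (toGrp (g.1 U)) (c.1 U) = c'.1 U := by
  obtain ⟨ι, -, hmem, heq⟩ := hT
  obtain ⟨ι', -, hmem', heq'⟩ := hT'
  let ψ : T.P ⟶ uSh G := ⟨{
    app := fun U => TypeCat.ofHom fun t =>
      ofGrp (toGrp (ι'.hom.app U (e.hom.hom.hom.app U t)) * (toGrp (ι.hom.app U t))⁻¹)
    naturality := fun U V f => by
      ext t
      show toGrp (ι'.hom.app V (e.hom.hom.hom.app V (T.P.obj.map f t))) * (toGrp (ι.hom.app V (T.P.obj.map f t)))⁻¹ =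
        G.obj.map f (toGrp (ι'.hom.app U (e.hom.hom.hom.app U t)) * (toGrp (ι.hom.app U t))⁻¹)
      rw [hom_map e.hom.hom f, hom_map ι f, hom_map ι' f, map_mul, map_inv]
      rfl }⟩
  obtain ⟨g, hg⟩ := exists_section_of_const ψ hTt fun U p q => by
    obtain ⟨a, ha, -⟩ := hps U p q
    show toGrp (ι'.hom.app U (e.hom.hom.hom.app U p)) * (toGrp (ι.hom.app U p))⁻¹ =
      toGrp (ι'.hom.app U (e.hom.hom.hom.app U q)) * (toGrp (ι.hom.app U q))⁻¹
    rw [← ha, e.hom.map_smul, heq', heq]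
    rw [_root_.mul_inv_rev, inv_inv, ← mul_assoc, inv_mul_cancel_right]
  refine ⟨g, fun U => ?_⟩
  obtain ⟨U⟩ := U
  obtain ⟨S, hS, hSne⟩ := hTt U
  refine ext_of_local Q.P hS fun V f hf => ?_
  obtain ⟨t⟩ := hSne f hf
  rw [Q.map_smul, c.2 f.op, c'.2 f.op]
  have h1 : G.obj.map f.op (toGrp (g.1 (op U))) =
      toGrp (ι'.hom.app (op V) (e.hom.hom.hom.app (op V) t)) * (toGrp (ι.hom.app (op V) t))⁻¹ :=
    (g.2 f.op).trans (hg (op V) t).symm
  rw [h1, ← (hmem (op V) _).mp ⟨t, rfl⟩, ← pi_mul, inv_mul_cancel_right]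
  exact (hmem' (op V) _).mp ⟨_, rfl⟩

theorem pushforward_trivial_iff (hu : ∀ U, Function.Injective (u.hom.app U)) (T : Torsor F) :
    IsPushforwardAlong u T.toGSheaf (GSheaf.trivial G) ↔ ∃ c : Q.P.obj.sections, IsFibreOver u π c T.toGSheaf := by
  constructor
  · rintro ⟨f, hf⟩
    have hf' : ∀ (U : Cᵒᵖ) (x : F.obj.obj U) (t : T.P.obj.obj U),
        toGrp (f.hom.app U (T.smul x t)) = u.hom.app U x * toGrp (f.hom.app U t) := hf
    let ι : T.P ⟶ uSh G := ⟨{
      app := fun U => TypeCat.ofHom fun t => ofGrp (toGrp (f.hom.app U t))⁻¹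
      naturality := fun U V i => by
        ext t
        show (toGrp (f.hom.app V (T.P.obj.map i t)))⁻¹ = G.obj.map i (toGrp (f.hom.app U t))⁻¹
        rw [hom_map f i, map_inv]
        rfl }⟩
    have hι : ∀ (U : Cᵒᵖ) (x : F.obj.obj U) (t : T.P.obj.obj U),
        toGrp (ι.hom.app U (T.smul x t)) = toGrp (ι.hom.app U t) * (u.hom.app U x)⁻¹ := fun U x t => by
      show (toGrp (f.hom.app U (T.smul x t)))⁻¹ = (toGrp (f.hom.app U t))⁻¹ * _
      rw [hf', _root_.mul_inv_rev]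
    have hinj : ∀ U, Function.Injective (ι.hom.app U) := fun U p q h => by
      obtain ⟨x, hx, -⟩ := T.isTorsor.1 U p q
      have h1 := hι U x p
      rw [hx, ← h, eq_comm, mul_eq_left, inv_eq_one] at h1
      rw [← hx, hu U (h1.trans (map_one _).symm), T.one_smul]
    obtain ⟨c, hc⟩ := exists_section_of_const (ι ≫ π.hom) T.isTorsor.2 fun U p q => by
      obtain ⟨x, hx, -⟩ := T.isTorsor.1 U p q
      show π.hom.hom.app U (ι.hom.app U p) = π.hom.hom.app U (ι.hom.app U q)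
      exact (hQ.1 U (toGrp (ι.hom.app U p)) _).mpr ⟨x⁻¹, by rw [← hx, map_inv]; exact hι U x p⟩
    refine ⟨c, ι, hinj, fun U g => ⟨fun ⟨t, ht⟩ => ht ▸ hc U t, fun hg => ?_⟩, hι⟩
    obtain ⟨U⟩ := U
    obtain ⟨S, hS, hSne⟩ := T.isTorsor.2 U
    refine mem_range_of_local ι hinj hS (ofGrp g) fun V i hi => ?_
    obtain ⟨t⟩ := hSne i hi
    obtain ⟨x, hx⟩ := (hQ.1 (op V) (toGrp (ι.hom.app (op V) t)) (G.obj.map i.op g)).mp (by
      rw [pi_map, hg, c.2 i.op]
      exact hc (op V) t)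
    refine ⟨T.smul x⁻¹ t, ?_⟩
    show toGrp (ι.hom.app (op V) (T.smul x⁻¹ t)) = G.obj.map i.op g
    rw [hι, hx, map_inv, inv_inv]
  · rintro ⟨c, ι, -, -, hι⟩
    refine ⟨⟨{
      app := fun U => TypeCat.ofHom fun t => ofGrp (toGrp (ι.hom.app U t))⁻¹
      naturality := fun U V i => by
        ext t
        show (toGrp (ι.hom.app V (T.P.obj.map i t)))⁻¹ = G.obj.map i (toGrp (ι.hom.app U t))⁻¹
        rw [hom_map ι i, map_inv]
        rfl }⟩, fun U x t => ?_⟩
    show (toGrp (ι.hom.app U (T.smul x t)))⁻¹ = u.hom.app U x * (toGrp (ι.hom.app U t))⁻¹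
    rw [hι, _root_.mul_inv_rev, inv_inv]

omit hQ in
theorem cl_eq_one_iff (T : Torsor F) (hT : IsFibreOver u π c T.toGSheaf) :
    T.cl = 1 ↔ ∃ g : (uSh G).obj.sections, ∀ U, π.hom.hom.app U (g.1 U) = c.1 U := by
  have hcl : T.cl = 1 ↔ Nonempty (T.toGSheaf ≅ GSheaf.trivial F) := by
    refine ⟨fun h => ?_, fun h => Quot.sound h⟩
    have := Quot.eqvGen_exact h
    have key : ∀ {A B : Torsor F}, Relation.EqvGen (fun P Q : Torsor F => Nonempty (P.toGSheaf ≅ Q.toGSheaf)) A B →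
        Nonempty (A.toGSheaf ≅ B.toGSheaf) := fun h => by
      induction h with
      | rel _ _ h => exact h
      | refl _ => exact ⟨Iso.refl _⟩
      | symm _ _ _ ih => exact ih.map Iso.symm
      | trans _ _ _ _ _ ih1 ih2 => exact ih1.elim fun a => ih2.map a.trans
    exact key this
  rw [hcl]
  obtain ⟨ι, hinj, hmem, -⟩ := hT
  constructor
  · rintro ⟨e⟩
    refine ⟨⟨fun U => ι.hom.app U (e.inv.hom.hom.app U (ofGrp (1 : F.obj.obj U))), fun {U V} f => ?_⟩,
      fun U => (hmem U _).mp ⟨_, rfl⟩⟩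
    rw [← hom_map ι f, ← hom_map e.inv.hom f]
    exact congrArg (fun z => ι.hom.app V (e.inv.hom.hom.app V z)) (map_one (F.obj.map f).hom)
  · rintro ⟨g, hg⟩
    have hex : ∀ U, ∃ t, toGrp (ι.hom.app U t) = toGrp (g.1 U) := fun U => (hmem U _).mpr (hg U)
    choose s hs using hex
    have hnat : ∀ {U V : Cᵒᵖ} (f : U ⟶ V), T.P.obj.map f (s U) = s V := fun {U V} f => hinj V (by
      show toGrp (ι.hom.app V _) = toGrp (ι.hom.app V _)
      rw [hom_map ι f, hs V]
      show G.obj.map f (toGrp (ι.hom.app U (s U))) = _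
      rw [hs U]
      exact g.2 f)
    let f : GSheaf.trivial F ⟶ T.toGSheaf :=
      ⟨⟨{ app := fun U => TypeCat.ofHom fun x => T.smul (toGrp x) (s U)
          naturality := fun U V i => by
            ext x
            exact ((T.map_smul i (toGrp x) (s U)).trans (by rw [hnat i]; rfl)).symm }⟩,
        fun {U} a x => T.mul_smul a (toGrp x) (s U)⟩
    obtain ⟨e⟩ := nonempty_iso_of_bijective f fun U => ⟨fun x y h => (T.isTorsor.1 U (s U) _).unique rfl h.symm,
      fun t => (T.isTorsor.1 U (s U) t).exists.imp fun x hx => hx⟩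
    exact ⟨e.symm⟩

end Groth.Agent.NonAbBd
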