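import Groth.Prelude.Def_NonAbH1
import Mathlib.CategoryTheory.Sites.Subsheaf

/-! Local-to-global principles for sheaves of sets, used for the boundary map of non-abelian cohomology. -/

universe w v u

open CategoryTheory Opposite

namespace Groth.Agent.NonAbBd

variable {C : Type u} [Category.{v} C] {J : GrothendieckTopology C}

theorem ext_of_local (P : Sheaf J (Type w)) {U : C} {S : Sieve U} (hS : S ∈ J U) {x y : P.obj.obj (op U)}
    (h : ∀ ⦃V : C⦄ (f : V ⟶ U), S f → P.obj.map f.op x = P.obj.map f.op y) : x = y :=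
  ((isSheaf_iff_isSheaf_of_type J _).mp P.property S hS).isSeparatedFor.ext fun V f hf => h f hf

theorem map_map (P : Sheaf J (Type w)) {U V W : C} (f : V ⟶ U) (g : W ⟶ V) (x : P.obj.obj (op U)) :
    P.obj.map g.op (P.obj.map f.op x) = P.obj.map (g ≫ f).op x := by
  rw [op_comp, Functor.map_comp]
  rfl

theorem hom_map {P P' : Sheaf J (Type w)} (φ : P ⟶ P') {U V : Cᵒᵖ} (f : U ⟶ V) (x : P.obj.obj U) :
    φ.hom.app V (P.obj.map f x) = P'.obj.map f (φ.hom.app U x) := by
  have h := φ.hom.naturality f
  exact ConcreteCategory.congr_hom h x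

/-- An element locally in the image of an injective morphism of sheaves is in the image. -/
theorem mem_range_of_local {P P' : Sheaf J (Type w)} (φ : P ⟶ P') (hφ : ∀ U, Function.Injective (φ.hom.app U))
    {U : C} {S : Sieve U} (hS : S ∈ J U) (y : P'.obj.obj (op U))
    (h : ∀ ⦃V : C⦄ (f : V ⟶ U), S f → ∃ t, φ.hom.app (op V) t = P'.obj.map f.op y) :
    ∃ t, φ.hom.app (op U) t = y := by
  let x : Presieve.FamilyOfElements P.obj S.arrows := fun V f hf => (h f hf).choose
  have hx : x.Compatible := by
    rw [Presieve.compatible_iff_sieveCompatible]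
    intro V W f g hf
    apply hφ
    rw [hom_map]
    show φ.hom.app (op W) (h (g ≫ f) (S.downward_closed hf g)).choose =
      P'.obj.map g.op (φ.hom.app (op V) (h f hf).choose)
    rw [(h f hf).choose_spec, (h (g ≫ f) (S.downward_closed hf g)).choose_spec, map_map]
  obtain ⟨t, ht, -⟩ := (isSheaf_iff_isSheaf_of_type J _).mp P.property S hS x hx
  refine ⟨t, ext_of_local P' hS fun V f hf => ?_⟩
  rw [← hom_map, ht f hf]
  exact (h f hf).choose_spec

/-- A morphism out of a locally nonempty sheaf which is constant on sections comes from a global section. -/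
theorem exists_section_of_const {P P' : Sheaf J (Type w)} (φ : P ⟶ P')
    (hP : ∀ U : C, ∃ S ∈ J U, ∀ ⦃V : C⦄ (f : V ⟶ U), S f → Nonempty (P.obj.obj (op V)))
    (hc : ∀ U p q, φ.hom.app U p = φ.hom.app U q) :
    ∃ s : P'.obj.sections, ∀ U p, φ.hom.app U p = s.1 U := by
  let N : ∀ U : C, Sieve U := fun U =>
    ⟨fun V _ => Nonempty (P.obj.obj (op V)), fun {V W f} hf g => hf.map (P.obj.map g.op)⟩
  have hN : ∀ U, N U ∈ J U := fun U => by
    obtain ⟨S, hS, hSP⟩ := hP U
    exact J.superset_covering (fun V f hf => hSP f hf) hS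
  have key : ∀ U : C, ∃ s : P'.obj.obj (op U),
      ∀ (V : C) (f : V ⟶ U) (t : P.obj.obj (op V)), φ.hom.app (op V) t = P'.obj.map f.op s := fun U => by
    let x : Presieve.FamilyOfElements P'.obj (N U).arrows := fun V f hf =>
      φ.hom.app (op V) (Classical.choice hf)
    have hx : x.Compatible := by
      rw [Presieve.compatible_iff_sieveCompatible]
      intro V W f g hf
      exact (hc (op W) _ _).trans (hom_map φ g.op _)
    obtain ⟨s, hs, -⟩ := (isSheaf_iff_isSheaf_of_type J _).mp P'.property (N U) (hN U) x hx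
    exact ⟨s, fun V f t => ((hs f ⟨t⟩).trans (hc (op V) _ t)).symm⟩
  choose s hs using key
  refine ⟨⟨fun U => s U.unop, fun {U V} f => ?_⟩, fun U p => ?_⟩
  · refine ext_of_local P' (hN V.unop) fun W g hg => ?_
    obtain ⟨t⟩ := hg
    rw [← hs V.unop W g t, hs U.unop W (g ≫ f.unop) t]
    exact map_map P' f.unop g _
  · have h := hs U.unop U.unop (𝟙 _) p
    rw [op_id, P'.obj.map_id] at h
    exact h

end Groth.Agent.NonAbBd
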